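import Mathlib.RingTheory.Localization.Integral
import Mathlib.RingTheory.IntegralClosure.IntegrallyClosed
import Mathlib.RingTheory.Ideal.MinimalPrime.Localization
import Mathlib.RingTheory.DiscreteValuationRing.TFAE
import Mathlib.RingTheory.HopkinsLevitzki
import Mathlib.RingTheory.Localization.Submodule
import Mathlib.RingTheory.LocalProperties.Reduced
import Mathlib.RingTheory.KrullDimension.Field
import Mathlib.RingTheory.KrullDimension.Basic

/-!
# One dimensional local rings integrally closed in an algebra inverting a system of parameters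

A reduced one-dimensional Noetherian local ring which is integrally closed in some algebra, in which
every element outside the minimal primes becomes invertible, is a discrete valuation ring.
-/

set_option autoImplicit false

universe u

namespace Groth.Agent.DimOneStalk

/-- Being integrally closed in an algebra is preserved by localization. -/
theorem isIntegrallyClosedIn_localization {A C R C' : Type u} [CommRing A] [CommRing C] [CommRing R]
    [CommRing C'] [Algebra A C] [Algebra A R] [Algebra C C'] [Algebra A C'] [Algebra R C']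
    [IsScalarTower A C C'] [IsScalarTower A R C'] (M : Submonoid A) [IsLocalization M R]
    [IsLocalization (Algebra.algebraMapSubmonoid C M) C'] (h : IsIntegrallyClosedIn A C) :
    IsIntegrallyClosedIn R C' := by
  obtain ⟨hinj, hic⟩ := isIntegrallyClosedIn_iff.1 h
  refine isIntegrallyClosedIn_iff.2 ⟨?_, fun {x} hx => ?_⟩
  · rw [injective_iff_map_eq_zero]
    intro r hr
    obtain ⟨a, m, rfl⟩ := IsLocalization.exists_mk'_eq M r
    have h0 : algebraMap C C' (algebraMap A C a) = 0 := by
      rw [← IsScalarTower.algebraMap_apply, IsScalarTower.algebraMap_apply A R C',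
        ← IsLocalization.mk'_spec R a m, map_mul, hr, zero_mul]
    obtain ⟨⟨_, s, hs, rfl⟩, e⟩ :=
      (IsLocalization.map_eq_zero_iff (Algebra.algebraMapSubmonoid C M) C' _).1 h0
    rw [← map_mul, ← map_zero (algebraMap A C)] at e
    exact (IsLocalization.mk'_eq_zero_iff a m).2 ⟨⟨s, hs⟩, hinj e⟩
  · obtain ⟨⟨c, _, m₁, hm₁, rfl⟩, e⟩ := IsLocalization.surj (Algebra.algebraMapSubmonoid C M) x
    obtain ⟨⟨m₂, hm₂⟩, hi⟩ := hx.exists_multiple_integral_of_isLocalization M _
    simp only [Submonoid.smul_def, Algebra.smul_def] at hi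
    obtain ⟨m₃, hm₃, hi₃⟩ := IsLocalization.exists_isIntegral_smul_of_isIntegral_map (Sₘ := C')
      M (x := m₂ • c) <| by
        simp only [Algebra.smul_def, map_mul, ← IsScalarTower.algebraMap_apply, ← e, ← mul_assoc]
        exact hi.mul isIntegral_algebraMap
    obtain ⟨a, ha⟩ := hic hi₃
    refine ⟨IsLocalization.mk' R a (⟨m₁ * m₂ * m₃, M.mul_mem (M.mul_mem hm₁ hm₂) hm₃⟩ : M), ?_⟩
    have hu : IsUnit (algebraMap A C' (m₁ * m₂ * m₃)) := by
      rw [IsScalarTower.algebraMap_apply A R C']
      exact (IsLocalization.map_units R (⟨_, M.mul_mem (M.mul_mem hm₁ hm₂) hm₃⟩ : M)).map _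
    refine hu.mul_left_injective ?_
    simp only
    rw [IsScalarTower.algebraMap_apply A R C', ← map_mul, IsLocalization.mk'_spec,
      ← IsScalarTower.algebraMap_apply, IsScalarTower.algebraMap_apply A C C' a, ha]
    simp only [Algebra.smul_def, map_mul, ← IsScalarTower.algebraMap_apply, ← e]
    ring

variable {R : Type u} [CommRing R] [IsLocalRing R]

theorem mem_minimalPrimes_or_eq_maximalIdeal (hdim : ringKrullDim R ≤ 1) (q : Ideal R) [q.IsPrime] :
    q ∈ minimalPrimes R ∨ q = IsLocalRing.maximalIdeal R := by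
  haveI : Ring.KrullDimLE 1 R := Ring.krullDimLE_iff.2 (by simpa using hdim)
  rcases Ring.krullDimLE_one_iff.1 ‹Ring.KrullDimLE 1 R› q inferInstance with h | h
  · exact Or.inl h
  · exact Or.inr (IsLocalRing.eq_maximalIdeal h)

variable [IsNoetherianRing R]

theorem exists_param (hdim : ringKrullDim R = 1) :
    ∃ t ∈ IsLocalRing.maximalIdeal R, ∀ q ∈ minimalPrimes R, t ∉ q := by
  classical
  by_contra hcon
  push Not at hcon
  have hsub : (IsLocalRing.maximalIdeal R : Set R) ⊆ ⋃ q ∈ (minimalPrimes.finite_of_isNoetherianRing R).toFinset,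
      ((id q : Ideal R) : Set R) := fun t ht => by
    obtain ⟨q, hq, htq⟩ := hcon t ht
    exact Set.mem_iUnion₂.2 ⟨q, Set.Finite.mem_toFinset _ |>.2 hq, htq⟩
  obtain ⟨q, hq, hle⟩ := (Ideal.subset_union_prime ⊥ ⊥
    (fun q hq _ _ => ((Set.Finite.mem_toFinset _).1 hq).1.1)).1 hsub
  rw [Set.Finite.mem_toFinset] at hq
  have hq' : q = IsLocalRing.maximalIdeal R :=
    ((IsLocalRing.maximalIdeal.isMaximal R).eq_of_le hq.1.1.ne_top hle).symm
  have h0 : Ring.KrullDimLE 0 R := by
    refine Ring.krullDimLE_zero_iff.2 fun I hI => ?_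
    have hIm : I ≤ IsLocalRing.maximalIdeal R := IsLocalRing.le_maximalIdeal hI.ne_top
    rw [← hq'] at hIm
    have := le_antisymm hIm (hq.2 ⟨hI, bot_le⟩ hIm)
    rw [this, hq']
    exact IsLocalRing.maximalIdeal.isMaximal R
  have := Ring.krullDimLE_iff.1 h0
  rw [hdim] at this
  exact absurd this (by decide)

theorem main [IsReduced R] (hdim : ringKrullDim R = 1) {C : Type u} [CommRing C] [Algebra R C]
    (hic : IsIntegrallyClosedIn R C)
    (hunit : ∀ t ∈ IsLocalRing.maximalIdeal R, (∀ q ∈ minimalPrimes R, t ∉ q) → IsUnit (algebraMap R C t)) :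
    ∃ _ : IsDomain R, IsDiscreteValuationRing R := by
  obtain ⟨t, htm, ht⟩ := exists_param hdim
  obtain ⟨hinj, hint⟩ := isIntegrallyClosedIn_iff.1 hic
  let K := Localization.Away t
  let ψ : K →ₐ[R] C :=
    { IsLocalization.Away.lift (S := K) t (g := algebraMap R C) (hunit t htm ht) with
      commutes' := fun r => IsLocalization.Away.lift_eq t _ r }
  have hK : Function.Injective (algebraMap R K) := by
    rw [injective_iff_map_eq_zero]
    intro a ha
    obtain ⟨⟨_, n, rfl⟩, e⟩ := (IsLocalization.map_eq_zero_iff (Submonoid.powers t) K a).1 ha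
    have : a ∈ nilradical R := by
      rw [nilradical, ← Ideal.sInf_minimalPrimes]
      refine Submodule.mem_sInf.2 fun q hq => ?_
      have hp : Ideal.IsPrime q := hq.1.1
      exact (hp.mem_or_mem (show t ^ n * a ∈ q by rw [show t ^ n * a = 0 from e]; exact q.zero_mem)).resolve_left
        fun h => ht q hq (hp.mem_of_pow_mem n h)
    exact (mem_nilradical.1 this).eq_zero
  have hψ : Function.Injective ψ := by
    rw [injective_iff_map_eq_zero]
    intro z hz
    obtain ⟨a, s, rfl⟩ := IsLocalization.exists_mk'_eq (Submonoid.powers t) z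
    have h0 : algebraMap R C a = 0 := by
      rw [← ψ.commutes, ← IsLocalization.mk'_spec K a s, map_mul, hz, zero_mul]
    rw [hinj (h0.trans (map_zero _).symm), IsLocalization.mk'_zero]
  haveI : IsNoetherianRing K := IsLocalization.isNoetherianRing (Submonoid.powers t) K inferInstance
  haveI : IsReduced K := isReduced_localizationPreserves (Submonoid.powers t) K inferInstance
  haveI : Nontrivial K := hK.nontrivial
  haveI : Ring.KrullDimLE 0 K := by
    refine Ring.krullDimLE_zero_iff.2 fun I hI => ?_
    have key : ∀ J : Ideal K, J.IsPrime → J.comap (algebraMap R K) ∈ minimalPrimes R := fun J hJ => by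
      haveI := hJ.comap (algebraMap R K)
      refine (mem_minimalPrimes_or_eq_maximalIdeal hdim.le _).resolve_right fun h => hJ.ne_top ?_
      exact Ideal.eq_top_of_isUnit_mem _ (show t ∈ J.comap (algebraMap R K) by rw [h]; exact htm)
        (IsLocalization.Away.algebraMap_isUnit t)
    obtain ⟨J, hJ, hIJ⟩ := Ideal.exists_le_maximal I hI.ne_top
    suffices I = J by rwa [this]
    refine le_antisymm hIJ ?_
    have h := (key J hJ.isPrime).2 ⟨(key I hI).1.1, bot_le⟩ (Ideal.comap_mono hIJ)
    rw [← IsLocalization.map_comap (Submonoid.powers t) K I, ← IsLocalization.map_comap (Submonoid.powers t) K J]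
    exact Ideal.map_mono h
  haveI : IsArtinianRing K := isArtinianRing_iff_isNoetherianRing_krullDimLE_zero.2 ⟨inferInstance, inferInstance⟩
  have hF : ∀ x : K, x ≠ 0 → IsUnit x := fun x hx => by
    obtain ⟨n, y, hy⟩ := IsArtinian.exists_pow_succ_smul_dvd x (1 : K)
    simp only [smul_eq_mul, mul_one, Nat.succ_eq_add_one] at hy
    have key : ∀ k, x ^ (n + k) * y ^ k = x ^ n := by
      intro k
      induction k with
      | zero => simp
      | succ k ih =>
        calc x ^ (n + (k + 1)) * y ^ (k + 1) = x ^ k * y ^ k * (x ^ (n + 1) * y) := by ring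
          _ = x ^ (n + k) * y ^ k := by rw [hy]; ring
          _ = x ^ n := ih
    let e := x ^ n * y ^ n
    have he : e * e = e := by
      calc e * e = x ^ (n + n) * y ^ n * y ^ n := by ring
        _ = e := by rw [key n]
    have hne : x ^ n * e = x ^ n := by
      calc x ^ n * e = x ^ (n + n) * y ^ n := by ring
        _ = x ^ n := key n
    have hi : IsIntegral R (ψ e) := by
      refine ⟨Polynomial.X ^ 2 - Polynomial.X, Polynomial.monic_X_pow_sub (by simp), ?_⟩
      rw [← Polynomial.aeval_def, map_sub, map_pow, Polynomial.aeval_X, ← map_pow, pow_two, he, sub_self]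
    obtain ⟨r, hr⟩ := hint hi
    have hre : e = algebraMap R K r := hψ (by rw [ψ.commutes]; exact hr.symm)
    have hrr : r * r = r := hinj (by rw [map_mul, hr, ← map_mul, he])
    rcases IsLocalRing.isUnit_or_isUnit_one_sub_self r with h | h
    · have h1 : r = 1 := h.mul_left_cancel (by rw [hrr, mul_one])
      rw [h1, map_one] at hre
      rcases Nat.eq_zero_or_pos n with rfl | hn
      · simp only [pow_zero, zero_add, pow_one] at hy
        exact IsUnit.of_mul_eq_one y hy
      · exact (isUnit_pow_iff hn.ne').1 (IsUnit.of_mul_eq_one _ hre)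
    · have h0 : r = 0 := by
        refine h.mul_right_eq_zero.1 (?_ : (1 - r) * r = 0)
        rw [sub_mul, one_mul, hrr, sub_self]
      rw [h0, map_zero] at hre
      rw [hre, mul_zero] at hne
      exact absurd (IsReduced.eq_zero x ⟨n, hne.symm⟩) hx
  letI : Field K := (⟨exists_pair_ne K, mul_comm, fun {x} hx => (hF x hx).exists_right_inv⟩ : IsField K).toField
  haveI : IsDomain R := hK.isDomain
  refine ⟨inferInstance, ?_⟩
  haveI : FaithfulSMul R K := (faithfulSMul_iff_algebraMap_injective R K).2 hK
  haveI : IsFractionRing R K := IsFractionRing.of_field R K fun z => by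
    obtain ⟨a, s, rfl⟩ := IsLocalization.exists_mk'_eq (Submonoid.powers t) z
    exact ⟨a, s, eq_div_of_mul_eq ((IsLocalization.map_units K s).ne_zero) (IsLocalization.mk'_spec K a s)⟩
  have hicR : IsIntegrallyClosed R := by
    rw [isIntegrallyClosed_iff_isIntegrallyClosedIn K]
    refine isIntegrallyClosedIn_iff.2 ⟨hK, fun {x} hx => ?_⟩
    obtain ⟨r, hr⟩ := hint (hx.map ψ)
    exact ⟨r, hψ ((ψ.commutes r).trans hr)⟩
  have hnf : ¬ IsField R := fun h => by
    rw [ringKrullDim_eq_zero_of_isField h] at hdim
    exact absurd hdim (by decide)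
  refine ((IsDiscreteValuationRing.TFAE R hnf).out 0 3 : IsDiscreteValuationRing R ↔ (IsIntegrallyClosed R ∧ ∃! P : Ideal R, P ≠ ⊥ ∧ P.IsPrime)).2 ⟨hicR, IsLocalRing.maximalIdeal R,
    ⟨fun h => hnf (IsLocalRing.isField_iff_maximalIdeal_eq.2 h), inferInstance⟩, fun P hP => ?_⟩
  haveI := hP.2
  refine (mem_minimalPrimes_or_eq_maximalIdeal hdim.le P).resolve_left fun h => hP.1 ?_
  simpa [IsDomain.minimalPrimes_eq_singleton_bot] using h

end Groth.Agent.DimOneStalk
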