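import Mathlib.AlgebraicGeometry.Morphisms.QuasiSeparated
import Mathlib.AlgebraicGeometry.Morphisms.QuasiCompact

/-!
# Making an element invertible on a preimage missing a point
-/

set_option autoImplicit false

universe u

open CategoryTheory AlgebraicGeometry TopologicalSpace

namespace Groth.Agent.DimOneStalk

/-- If `a` is a section over an affine open `W` vanishing, among the primes contained in `p`, only at `p`,
and `p` is not in the image of `g`, then `a` divides a power of some `s ∉ p` upstairs. -/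
theorem exists_dvd_pow {X Y : Scheme.{u}} (g : Y ⟶ X) {W : X.Opens} (hW : IsAffineOpen W) {V : Y.Opens}
    (hVc : IsCompact (V : Set Y)) (hVq : IsQuasiSeparated (V : Set Y)) (hle : V ≤ g ⁻¹ᵁ W)
    (x : W) (hx : (x : X) ∉ Set.range g) (a : Γ(X, W))
    (ha : ∀ q : Ideal Γ(X, W), q.IsPrime → q ≤ (hW.primeIdealOf x).asIdeal → a ∈ q →
      q = (hW.primeIdealOf x).asIdeal) :
    ∃ s : Γ(X, W), s ∉ (hW.primeIdealOf x).asIdeal ∧ ∃ (N : ℕ) (c : Γ(Y, V)),
      g.appLE W V hle a * c = g.appLE W V hle s ^ N := by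
  classical
  let p := (hW.primeIdealOf x).asIdeal
  let θ := g.appLE W V hle
  obtain ⟨S, hS, e⟩ := isCompact_iff_finite_and_eq_biUnion_affineOpens.mp hVc
  have hleV : ∀ i ∈ S, (i : Y.Opens) ≤ V := fun i hi =>
    (le_iSup₂ (f := fun (i : Y.affineOpens) (_ : i ∈ S) => (i : Y.Opens)) i hi).trans e.ge
  have loc : ∀ i ∈ S, ∃ s : Γ(X, W), s ∉ p ∧ Y.basicOpen (θ s) ⊓ (i : Y.Opens) ≤ Y.basicOpen (θ a) := by
    intro i hi
    let χ := g.appLE W i ((hleV i hi).trans hle)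
    have hres : ∀ z, Y.presheaf.map (homOfLE (hleV i hi)).op (θ z) = χ z := fun z => by
      simp only [θ, χ, ← CommRingCat.comp_apply, Scheme.Hom.appLE_map]
    obtain ⟨s, hs, hsa⟩ : ∃ s : Γ(X, W), s ∉ p ∧ χ s ∈ Ideal.span {χ a} := by
      by_contra hcon
      have hd : Disjoint (Ideal.span {χ a} : Set Γ(Y, i)) (p.primeCompl.map χ.hom.toMonoidHom : Set Γ(Y, i)) := by
        refine Set.disjoint_right.2 ?_
        rintro _ ⟨s, hs, rfl⟩ h
        exact hcon ⟨s, hs, h⟩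
      obtain ⟨Q, hQ, hle', hdQ⟩ := Ideal.exists_le_prime_disjoint _ _ hd
      let y := i.2.fromSpec ⟨Q, hQ⟩
      have hyi : y ∈ (i : Y.Opens) := i.2.range_fromSpec.le ⟨_, rfl⟩
      have hy : i.2.primeIdealOf ⟨y, hyi⟩ = ⟨Q, hQ⟩ :=
        i.2.fromSpec.isOpenEmbedding.injective (i.2.fromSpec_primeIdealOf _)
      have hq : (hW.primeIdealOf ⟨g y, (hleV i hi).trans hle hyi⟩).asIdeal = p := by
        rw [← IsAffineOpen.comap_primeIdealOf_appLE (f := g) W hW (i : Y.Opens) i.2 ((hleV i hi).trans hle) hyi, hy]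
        refine ha _ (Ideal.IsPrime.comap χ.hom) (fun z hz => ?_) (hle' (Ideal.subset_span rfl))
        by_contra hzp
        exact Set.disjoint_left.1 hdQ hz ⟨z, hzp, rfl⟩
      refine hx ⟨y, ?_⟩
      have h := hW.fromSpec_primeIdealOf x
      rw [← PrimeSpectrum.ext hq, hW.fromSpec_primeIdealOf] at h
      exact h
    refine ⟨s, hs, ?_⟩
    obtain ⟨c, hc⟩ := Ideal.mem_span_singleton'.1 hsa
    rw [inf_comm, ← Y.basicOpen_res (θ s) (homOfLE (hleV i hi)).op, hres, ← hc, Scheme.basicOpen_mul, ← hres,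
      Scheme.basicOpen_res]
    exact inf_le_right.trans inf_le_right
  choose s hs hbo using loc
  refine ⟨∏ i ∈ hS.toFinset.attach, s i.1 (hS.mem_toFinset.1 i.2), ?_, ?_⟩
  · exact Submonoid.prod_mem p.primeCompl fun i _ => hs _ _
  generalize ht : ∏ i ∈ hS.toFinset.attach, s i.1 (hS.mem_toFinset.1 i.2) = t
  have hbot : Y.basicOpen (θ t) ≤ Y.basicOpen (θ a) := by
    intro y hy
    have hyV : y ∈ V := Y.basicOpen_le _ hy
    rw [e] at hyV
    obtain ⟨i, hi⟩ := Opens.mem_iSup.1 hyV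
    obtain ⟨hiS, hyi⟩ := Opens.mem_iSup.1 hi
    refine hbo i hiS ⟨?_, hyi⟩
    have hd : s i hiS ∣ t := ht ▸ Finset.dvd_prod_of_mem
      (fun j : {j // j ∈ hS.toFinset} => s j.1 (hS.mem_toFinset.1 j.2))
      (Finset.mem_attach _ ⟨i, hS.mem_toFinset.2 hiS⟩)
    obtain ⟨d, hd⟩ := hd
    rw [hd, map_mul, Scheme.basicOpen_mul] at hy
    exact hy.1
  haveI := isLocalization_basicOpen_of_qcqs hVc hVq (θ t)
  have hu : IsUnit (algebraMap Γ(Y, V) Γ(Y, Y.basicOpen (θ t)) (θ a)) := by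
    have h : IsUnit (Y.presheaf.map (homOfLE (Y.basicOpen_le (θ a))).op (θ a)) :=
      RingedSpace.isUnit_res_basicOpen Y.toRingedSpace (θ a)
    have h2 : IsUnit (Y.presheaf.map ((homOfLE (Y.basicOpen_le (θ a))).op ≫ (homOfLE hbot).op) (θ a)) := by
      rw [Functor.map_comp]
      exact h.map (Y.presheaf.map (homOfLE hbot).op).hom
    exact h2
  obtain ⟨b, hb⟩ := hu.exists_right_inv
  obtain ⟨N, c, hc⟩ := IsLocalization.Away.surj (θ t) b
  have h1 : algebraMap Γ(Y, V) Γ(Y, Y.basicOpen (θ t)) (θ a * c) =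
      algebraMap Γ(Y, V) Γ(Y, Y.basicOpen (θ t)) (θ t ^ N) := by
    rw [map_mul, ← hc, map_pow, ← mul_assoc, hb, one_mul]
  obtain ⟨⟨_, k, rfl⟩, hk⟩ := IsLocalization.exists_of_eq (M := Submonoid.powers (θ t)) h1
  exact ⟨k + N, θ t ^ k * c, by rw [pow_add, ← hk]; ring⟩

end Groth.Agent.DimOneStalk
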